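import Mathlib
import Cfsg.Prelude.Def_EvenType
set_option linter.all false

/-!
# Rank of elementary abelian `p`-subgroups of linear groups in characteristic prime to `p` (helper70)

* `mul_ord_le_finrank` : a finite commutative group `A` of exponent `p` acting faithfully on `V` over the finite field `F`
  with `p ∤ |F|`, `p ^ r ≤ |A|`: `r * orderOf (|F| : ZMod p) ≤ finrank F V`;
* `pRankAtLeast_of_quot` : lifting elementary abelian subgroups through a finite central `p'`-subgroup.
-/

set_option autoImplicit false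
set_option linter.style.haveILetI false

namespace Cfsg.Agent.GpLn.Rank

open Module

section lin

variable {F : Type*} [Field F] {V : Type*} [AddCommGroup V] [Module F V]

/-- `W` is invariant under the representation `φ`. -/
def Inv {A : Type*} [Monoid A] (φ : A →* (V →ₗ[F] V)) (W : Submodule F V) : Prop :=
  ∀ a, ∀ w ∈ W, φ a w ∈ W

/-- averaged projection: **Maschke** in elementary form -/
theorem exists_compl {A : Type*} [Group A] [Finite A] (φ : A →* (V →ₗ[F] V)) (hA : (Nat.card A : F) ≠ 0)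
    (W : Submodule F V) (hW : Inv φ W) : ∃ W' : Submodule F V, Inv φ W' ∧ IsCompl W W' := by
  classical
  letI : Fintype A := Fintype.ofFinite A
  obtain ⟨W₁, hW₁⟩ := W.exists_isCompl
  let π : V →ₗ[F] V := W.subtype ∘ₗ W.projectionOnto W₁ hW₁
  have hπ : ∀ v, π v ∈ W := fun v => (W.projectionOnto W₁ hW₁ v).2
  have hπW : ∀ w ∈ W, π w = w := by
    intro w hw
    show ((W.projectionOnto W₁ hW₁ w : W) : V) = w
    rw [Submodule.projectionOnto_apply_left hW₁ ⟨w, hw⟩]
  have hmul : ∀ (a b : A) (v : V), φ (a * b) v = φ a (φ b v) := by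
    intro a b v
    rw [map_mul]; rfl
  have hone : ∀ v : V, φ 1 v = v := by
    intro v
    rw [map_one]; rfl
  let ρ : V →ₗ[F] V := ((Nat.card A : F)⁻¹) • ∑ a : A, (φ a ∘ₗ π ∘ₗ φ a⁻¹)
  have hρ : ∀ v, ρ v = ((Nat.card A : F)⁻¹) • ∑ a : A, φ a (π (φ a⁻¹ v)) := by
    intro v
    simp [ρ]
  have hρW : ∀ v, ρ v ∈ W := by
    intro v
    rw [hρ]
    exact W.smul_mem _ (W.sum_mem fun a _ => hW a _ (hπ _))
  have hρid : ∀ w ∈ W, ρ w = w := by
    intro w hw
    rw [hρ]
    have h1 : ∀ a : A, φ a (π (φ a⁻¹ w)) = w := by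
      intro a
      rw [hπW _ (hW _ _ hw), ← hmul, mul_inv_cancel, hone]
    rw [Finset.sum_congr rfl fun a _ => h1 a, Finset.sum_const, Finset.card_univ, ← Nat.card_eq_fintype_card,
      ← Nat.cast_smul_eq_nsmul F, smul_smul, inv_mul_cancel₀ hA, one_smul]
  have hρφ : ∀ (b : A) (v : V), ρ (φ b v) = φ b (ρ v) := by
    intro b v
    rw [hρ, hρ, map_smul, map_sum]
    congr 1
    refine Fintype.sum_equiv (Equiv.mulLeft b⁻¹) _ _ ?_
    intro a
    show φ a (π (φ a⁻¹ (φ b v))) = φ b (φ (b⁻¹ * a) (π (φ (b⁻¹ * a)⁻¹ v)))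
    rw [← hmul b, mul_inv_cancel_left, ← hmul a⁻¹ b, mul_inv_rev, inv_inv]
  refine ⟨LinearMap.ker ρ, ?_, ?_⟩
  · intro a w hw
    rw [LinearMap.mem_ker] at hw ⊢
    rw [hρφ, hw, map_zero]
  · constructor
    · rw [Submodule.disjoint_def]
      intro x hx hx2
      rw [LinearMap.mem_ker] at hx2
      rw [← hρid x hx, hx2]
    · rw [codisjoint_iff, eq_top_iff]
      intro v _
      have h1 : v = ρ v + (v - ρ v) := by abel
      rw [h1]
      refine Submodule.add_mem_sup (hρW v) ?_
      rw [LinearMap.mem_ker, map_sub, hρid _ (hρW v), sub_self]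

/-- an irreducible representation of a finite commutative group of exponent `p` : the kernel has index at most `p` -/
theorem index_ker_le {A : Type*} [CommGroup A] [Finite A] (φ : A →* (V →ₗ[F] V)) [Nontrivial V]
    (hirr : ∀ U : Submodule F V, Inv φ U → U = ⊥ ∨ U = ⊤) {p : ℕ} (hp : 0 < p) (hexp : ∀ a : A, a ^ p = 1) :
    φ.ker.index ≤ p := by
  classical
  let S : Subalgebra F (V →ₗ[F] V) := Algebra.adjoin F (Set.range φ)
  have hc : ∀ a ∈ Set.range φ, ∀ b ∈ Set.range φ, a * b = b * a := by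
    rintro _ ⟨a, rfl⟩ _ ⟨b, rfl⟩
    rw [← map_mul, ← map_mul, mul_comm]
  haveI hSc : IsMulCommutative S := Algebra.isMulCommutative_adjoin F hc
  letI : CommRing S := { (inferInstance : Ring S) with mul_comm := fun a b => hSc.is_comm.comm a b }
  have hSφ : ∀ f ∈ S, ∀ a, Commute (φ a) f := by
    intro f hf a
    refine Algebra.commute_of_mem_adjoin_of_forall_mem_commute hf ?_
    intro b hb
    exact hc _ ⟨a, rfl⟩ _ hb
  have hinj : ∀ f ∈ S, f ≠ 0 → ∀ v, f v = 0 → v = 0 := by
    intro f hf hf0 v hv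
    have hI : Inv φ (LinearMap.ker f) := by
      intro a w hw
      rw [LinearMap.mem_ker] at hw ⊢
      have h1 := LinearMap.congr_fun (hSφ f hf a) w
      change φ a (f w) = f (φ a w) at h1
      rw [← h1, hw, map_zero]
    rcases hirr _ hI with h | h
    · have : v ∈ LinearMap.ker f := hv
      rw [h] at this
      exact (Submodule.mem_bot F).1 this
    · exact absurd (LinearMap.ker_eq_top.1 h) hf0
  haveI : Nontrivial S := by
    refine ⟨⟨0, 1, ?_⟩⟩
    intro h
    have h1 : (0 : V →ₗ[F] V) = 1 := congrArg Subtype.val h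
    obtain ⟨v, hv⟩ := exists_ne (0 : V)
    exact hv (by simpa using (LinearMap.congr_fun h1 v).symm)
  haveI : NoZeroDivisors S := by
    refine ⟨?_⟩
    intro f g hfg
    by_cases hf : f = 0
    · exact Or.inl hf
    right
    apply Subtype.ext
    ext v
    have h1 : (f : V →ₗ[F] V) ((g : V →ₗ[F] V) v) = 0 := by
      have h2 := LinearMap.congr_fun (congrArg Subtype.val hfg) v
      simpa using h2
    exact hinj f f.2 (fun h => hf (Subtype.ext h)) _ h1
  haveI : IsDomain S := NoZeroDivisors.to_isDomain S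
  let ψ : A →* S :=
    { toFun := fun a => ⟨φ a, Algebra.subset_adjoin ⟨a, rfl⟩⟩
      map_one' := Subtype.ext (map_one φ)
      map_mul' := fun a b => Subtype.ext (map_mul φ a b) }
  have hker : ψ.ker = φ.ker := by
    ext a
    rw [MonoidHom.mem_ker, MonoidHom.mem_ker]
    exact ⟨fun h => congrArg Subtype.val h, fun h => Subtype.ext h⟩
  haveI hcyc : IsCyclic (A ⧸ φ.ker) := by
    refine isCyclic_of_injective_ringHom (QuotientGroup.lift φ.ker ψ (fun a ha => by rw [hker.symm] at ha; exact ha)) ?_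
    rw [injective_iff_map_eq_one]
    intro a
    induction a using QuotientGroup.induction_on with
    | H a =>
      intro h
      rw [QuotientGroup.lift_mk] at h
      rw [QuotientGroup.eq_one_iff, ← hker]
      exact h
  have h1 : Nat.card (A ⧸ φ.ker) ∣ p := by
    rw [← IsCyclic.exponent_eq_card]
    apply Monoid.exponent_dvd_of_forall_pow_eq_one
    intro a
    induction a using QuotientGroup.induction_on with
    | H a => rw [← QuotientGroup.mk_pow, hexp]; rfl
  rw [Subgroup.index]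
  exact Nat.le_of_dvd hp h1

/-- an element of order `p` without fixed points: `p ∣ |V| - 1` -/
theorem orderOf_le_of_fixedPoints [Finite F] [FiniteDimensional F V] [Nontrivial V] {p : ℕ} (hp : p.Prime)
    (f : V →ₗ[F] V) (hf : f ^ p = 1) (h0 : ∀ v, f v = v → v = 0) :
    orderOf ((Nat.card F : ℕ) : ZMod p) ≤ finrank F V := by
  classical
  haveI : Fact p.Prime := ⟨hp⟩
  letI : Fintype F := Fintype.ofFinite F
  haveI : Finite V := Module.finite_of_finite F
  letI : Fintype V := Fintype.ofFinite V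
  let g : Function.End V := fun v => f v
  have hg : ∀ n : ℕ, ∀ v, (g ^ n) v = (f ^ n) v := by
    intro n
    induction n with
    | zero => intro v; rfl
    | succ n ih =>
      intro v
      rw [pow_succ, pow_succ]
      show (g ^ n) (g v) = (f ^ n) (f v)
      rw [ih]
  have hgp : g ^ p ^ 1 = 1 := by
    funext v
    rw [pow_one, hg, hf]
    rfl
  have h1 := Equiv.Perm.card_fixedPoints_modEq (p := p) (n := 1) hgp
  have h2 : Fintype.card ↑(Function.fixedPoints g) = 1 := by
    rw [Fintype.card_eq_one_iff]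
    refine ⟨⟨0, ?_⟩, ?_⟩
    · show g 0 = 0
      exact map_zero f
    · rintro ⟨v, hv⟩
      exact Subtype.ext (h0 v hv)
  rw [h2, Module.card_eq_pow_finrank (K := F)] at h1
  have h3 : (((Nat.card F : ℕ) : ZMod p)) ^ finrank F V = 1 := by
    have h4 := (ZMod.natCast_eq_natCast_iff _ _ p).2 h1
    rw [Nat.card_eq_fintype_card]
    push_cast at h4
    exact h4
  exact Nat.le_of_dvd finrank_pos (orderOf_dvd_of_pow_eq_one h3)

/-- the restriction of a representation to an invariant subspace -/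
def restr {A : Type*} [Monoid A] (φ : A →* (V →ₗ[F] V)) (W : Submodule F V) (hW : Inv φ W) : A →* (W →ₗ[F] W) where
  toFun a := (φ a).restrict (hW a)
  map_one' := by
    ext v
    simp
  map_mul' a b := by
    ext v
    simp

theorem restr_apply {A : Type*} [Monoid A] (φ : A →* (V →ₗ[F] V)) (W : Submodule F V) (hW : Inv φ W) (a : A) (w : W) :
    ((restr φ W hW a w : W) : V) = φ a w := rfl

/-- existence of an irreducible invariant subspace with nontrivial action -/
theorem exists_irr {A : Type*} [Group A] [Finite A] [FiniteDimensional F V] (φ : A →* (V →ₗ[F] V))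
    (hA : (Nat.card A : F) ≠ 0) (hne : ∃ a v, φ a v ≠ v) :
    ∃ W : Submodule F V, Inv φ W ∧ (∃ a, ∃ w ∈ W, φ a w ≠ w) ∧
      ∀ U : Submodule F V, U ≤ W → Inv φ U → U = ⊥ ∨ U = W := by
  classical
  let P : ℕ → Prop := fun n => ∃ W : Submodule F V, Inv φ W ∧ (∃ a, ∃ w ∈ W, φ a w ≠ w) ∧ finrank F W = n
  have hP : ∃ n, P n := by
    obtain ⟨a, v, hv⟩ := hne
    exact ⟨_, ⊤, fun _ _ _ => trivial, ⟨a, v, trivial, hv⟩, rfl⟩
  obtain ⟨W, hW, hWn, hWr⟩ := Nat.find_spec hP
  refine ⟨W, hW, hWn, ?_⟩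
  intro U hUW hU
  by_contra hcon
  push Not at hcon
  obtain ⟨hU0, hUne⟩ := hcon
  have htriv : ∀ T : Submodule F V, T ≤ W → T ≠ W → Inv φ T → ∀ a, ∀ t ∈ T, φ a t = t := by
    intro T hTW hTne hT a t ht
    by_contra h
    have h1 : P (finrank F T) := ⟨T, hT, ⟨a, t, ht, h⟩, rfl⟩
    have h2 := Nat.find_min' hP h1
    have h3 : finrank F T < finrank F W := Submodule.finrank_lt_finrank_of_lt (lt_of_le_of_ne hTW hTne)
    omega
  obtain ⟨U', hU', hUU'⟩ := exists_compl φ hA U hU
  have h1 : U ⊔ (U' ⊓ W) = W := by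
    rw [← sup_inf_assoc_of_le U' hUW, hUU'.sup_eq_top, top_inf_eq]
  have hI : Inv φ (U' ⊓ W) := fun a w hw => ⟨hU' a w hw.1, hW a w hw.2⟩
  have hne' : U' ⊓ W ≠ W := by
    intro h
    have h2 : W ≤ U' := by rw [← h]; exact inf_le_left
    apply hU0
    rw [eq_bot_iff, ← hUU'.inf_eq_bot]
    exact le_inf le_rfl (hUW.trans h2)
  obtain ⟨a, w, hw, hne2⟩ := hWn
  apply hne2
  rw [← h1] at hw
  obtain ⟨y, hy, z, hz, rfl⟩ := Submodule.mem_sup.1 hw
  rw [map_add, htriv U hUW hUne hU a y hy, htriv _ inf_le_right hne' hI a z hz]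

/-- **rank bound**, homomorphism form -/
theorem mul_ord_le_finrank_hom [Finite F] {p : ℕ} (hp : p.Prime) (hpF : (p : F) ≠ 0) :
    ∀ (n : ℕ) (V : Type*) [AddCommGroup V] [Module F V] [FiniteDimensional F V] (_ : finrank F V = n)
      (A : Type*) [CommGroup A] [Finite A] (_ : ∀ a : A, a ^ p = 1) (φ : A →* (V →ₗ[F] V))
      (_ : Function.Injective φ) (r : ℕ) (_ : p ^ r ≤ Nat.card A),
      r * orderOf ((Nat.card F : ℕ) : ZMod p) ≤ n := by
  intro n
  induction n using Nat.strong_induction_on with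
  | _ n ih =>
  intro V _ _ _ hn A _ _ hexp φ hφ r hr
  classical
  by_cases hr0 : r = 0
  · subst hr0; simp
  have hpA : (Nat.card A : F) ≠ 0 := by
    haveI : Fact p.Prime := ⟨hp⟩
    have h1 : IsPGroup p A := fun a => ⟨1, by rw [pow_one]; exact hexp a⟩
    obtain ⟨k, hk⟩ := (IsPGroup.iff_card (p := p)).1 h1
    rw [hk]
    push_cast
    exact pow_ne_zero _ hpF
  have hne : ∃ a v, φ a v ≠ v := by
    by_contra hcon
    push Not at hcon
    have h1 : Subsingleton A := by
      refine ⟨fun a b => hφ ?_⟩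
      ext v
      rw [hcon, hcon]
    have h2 : Nat.card A = 1 := Nat.card_of_subsingleton (1 : A)
    rw [h2] at hr
    have h3 : 1 < p ^ r := Nat.one_lt_pow hr0 hp.one_lt
    omega
  obtain ⟨W, hW, ⟨a₀, w₀, hw₀, hne₀⟩, hirr⟩ := exists_irr φ hpA hne
  obtain ⟨W', hW', hWW'⟩ := exists_compl φ hpA W hW
  haveI : Nontrivial W := by
    refine ⟨⟨⟨w₀, hw₀⟩, 0, ?_⟩⟩
    intro h
    have h1 : w₀ = 0 := congrArg Subtype.val h
    rw [h1, map_zero] at hne₀
    exact hne₀ rfl
  let ψ := restr φ W hW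
  have hψirr : ∀ U : Submodule F W, Inv ψ U → U = ⊥ ∨ U = ⊤ := by
    intro U hU
    have h1 := hirr (U.map W.subtype) (Submodule.map_subtype_le W U) (by
      rintro a _ ⟨u, hu, rfl⟩
      exact ⟨ψ a u, hU a u hu, rfl⟩)
    rcases h1 with h1 | h1
    · left
      rw [eq_bot_iff]
      intro u hu
      have h2 : (u : V) ∈ U.map W.subtype := ⟨u, hu, rfl⟩
      rw [h1, Submodule.mem_bot] at h2
      exact (Submodule.mem_bot F).2 (Subtype.ext h2)
    · right
      rw [eq_top_iff]
      intro w _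
      have h2 : (w : V) ∈ U.map W.subtype := by rw [h1]; exact w.2
      obtain ⟨u, hu, huw⟩ := h2
      have h3 : u = w := Subtype.ext huw
      rw [← h3]; exact hu
  have hker := index_ker_le ψ hψirr hp.pos hexp
  have hd : orderOf ((Nat.card F : ℕ) : ZMod p) ≤ finrank F W := by
    refine orderOf_le_of_fixedPoints hp (ψ a₀) (by rw [← map_pow, hexp, map_one]) ?_
    have hI : Inv ψ (LinearMap.ker (ψ a₀ - 1)) := by
      intro b w hw
      rw [LinearMap.mem_ker, LinearMap.sub_apply, Module.End.one_apply, sub_eq_zero] at hw ⊢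
      have h1 : ψ a₀ (ψ b w) = ψ b (ψ a₀ w) := by
        have h2 : ψ a₀ * ψ b = ψ b * ψ a₀ := by rw [← map_mul, ← map_mul, mul_comm]
        exact LinearMap.congr_fun h2 w
      rw [h1, hw]
    rcases hψirr _ hI with h | h
    · intro v hv
      have h1 : v ∈ LinearMap.ker (ψ a₀ - 1) := by
        rw [LinearMap.mem_ker, LinearMap.sub_apply, Module.End.one_apply, sub_eq_zero]
        exact hv
      rw [h] at h1
      exact (Submodule.mem_bot F).1 h1
    · exfalso
      have h1 : (⟨w₀, hw₀⟩ : W) ∈ LinearMap.ker (ψ a₀ - 1) := by rw [h]; trivial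
      rw [LinearMap.mem_ker, LinearMap.sub_apply, Module.End.one_apply, sub_eq_zero] at h1
      exact hne₀ (congrArg Subtype.val h1)
  -- the kernel acts faithfully on `W'`
  let B := ψ.ker
  let φ' : B →* (W' →ₗ[F] W') := (restr φ W' hW').comp B.subtype
  have hφ' : Function.Injective φ' := by
    rw [injective_iff_map_eq_one]
    rintro ⟨b, hb⟩ h
    apply Subtype.ext
    apply hφ
    show φ b = φ 1
    rw [map_one]
    ext v
    obtain ⟨y, hy, z, hz, rfl⟩ := Submodule.mem_sup.1 (show v ∈ W ⊔ W' by rw [hWW'.sup_eq_top]; trivial)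
    have h1 : φ b y = y := by
      have h2 : ψ b = 1 := hb
      exact congrArg Subtype.val (LinearMap.congr_fun h2 ⟨y, hy⟩)
    have h3 : φ b z = z := congrArg Subtype.val (LinearMap.congr_fun h ⟨z, hz⟩)
    rw [map_add, h1, h3]
    rfl
  have hdim : finrank F W + finrank F W' = n := by
    rw [← hn]
    exact Submodule.finrank_add_eq_of_isCompl hWW'
  have hposW : 0 < finrank F W := finrank_pos
  have hcardB : p ^ (r - 1) ≤ Nat.card B := by
    have h1 := B.card_mul_index
    have h2 : p ^ r = p ^ (r - 1) * p := by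
      rw [← pow_succ]
      congr 1
      omega
    have h3 : p ^ (r - 1) * p ≤ Nat.card B * p := by
      rw [← h2]
      refine hr.trans ?_
      rw [← h1]
      exact Nat.mul_le_mul_left _ hker
    exact Nat.le_of_mul_le_mul_right h3 hp.pos
  have h4 := ih (finrank F W') (by omega) W' rfl B (fun b => Subtype.ext (hexp b)) φ' hφ' (r - 1) hcardB
  have h5 : r * orderOf ((Nat.card F : ℕ) : ZMod p) =
      (r - 1) * orderOf ((Nat.card F : ℕ) : ZMod p) + orderOf ((Nat.card F : ℕ) : ZMod p) := by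
    obtain ⟨s, rfl⟩ : ∃ s, r = s + 1 := ⟨r - 1, by omega⟩
    rw [Nat.add_sub_cancel]
    ring
  omega

end lin

section quot

open Cfsg

/-- lifting elementary abelian `p`-subgroups through a central `p'`-subgroup -/
theorem pRankAtLeast_of_quot {X : Type*} [Group X] [Finite X] (Z : Subgroup X) [Z.Normal]
    (hZ : Z ≤ Subgroup.center X) {p : ℕ} (hp : p.Prime) (hZp : ¬ p ∣ Nat.card Z) {r : ℕ}
    (h : PRankAtLeast p r (X ⧸ Z)) : PRankAtLeast p r X := by
  obtain ⟨E, hE, hEp, hEc⟩ := h
  have hcop : Nat.Coprime p (Nat.card Z) := (Nat.Prime.coprime_iff_not_dvd hp).2 hZp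
  obtain ⟨m, hm1, hm2⟩ := Nat.chineseRemainder hcop 1 0
  have hmZ : Nat.card Z ∣ m := (Nat.modEq_zero_iff_dvd).1 hm2
  have hZpow : ∀ z ∈ Z, z ^ m = 1 := by
    intro z hz
    obtain ⟨k, hk⟩ := hmZ
    rw [hk, pow_mul]
    have h1 : (⟨z, hz⟩ : Z) ^ Nat.card Z = 1 := pow_card_eq_one'
    have h2 : z ^ Nat.card Z = 1 := congrArg Subtype.val h1
    rw [h2, one_pow]
  have hEm : ∀ e ∈ E, e ^ m = e := by
    intro e he
    have h1 : m ≡ 1 [MOD p] := hm1
    have h2 : e ^ m = e ^ 1 := by
      rw [pow_eq_pow_iff_modEq]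
      exact h1.of_dvd (orderOf_dvd_of_pow_eq_one (hEp e he))
    rw [h2, pow_one]
  let π := QuotientGroup.mk' Z
  have hcen : ∀ y ∈ E.comap π, ∀ w ∈ E.comap π, Commute (y ^ m) w := by
    intro y hy w hw
    have h1 : π y * π w = π w * π y := congrArg Subtype.val (hE.is_comm.comm ⟨π y, hy⟩ ⟨π w, hw⟩)
    have h2 : y⁻¹ * (w⁻¹ * y * w) ∈ Z := by
      rw [← QuotientGroup.ker_mk' Z, MonoidHom.mem_ker]
      show π _ = 1
      simp only [map_mul, map_inv]
      rw [mul_assoc (π w)⁻¹, h1]
      group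
    have h3 : w⁻¹ * y * w = y * (y⁻¹ * (w⁻¹ * y * w)) := by group
    have h4 : (w⁻¹ * y * w) ^ m = y ^ m := by
      rw [h3]
      have h5 : Commute y (y⁻¹ * (w⁻¹ * y * w)) := (Subgroup.mem_center_iff.1 (hZ h2) y)
      rw [h5.mul_pow, hZpow _ h2, mul_one]
    have h6 : (w⁻¹ * y * w) ^ m = w⁻¹ * y ^ m * w := by
      have := conj_pow (a := w⁻¹) (b := y) (i := m)
      rw [inv_inv] at this
      exact this
    rw [h6] at h4
    show y ^ m * w = w * y ^ m
    calc y ^ m * w = w * (w⁻¹ * y ^ m * w) := by group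
      _ = w * y ^ m := by rw [h4]
  let S : Set X := (fun y => y ^ m) '' (E.comap π : Set X)
  have hScomm : ∀ a ∈ S, ∀ b ∈ S, a * b = b * a := by
    rintro _ ⟨y, hy, rfl⟩ _ ⟨w, hw, rfl⟩
    exact ((hcen y hy w hw).pow_right m)
  have hAc : IsMulCommutative (Subgroup.closure S) := Subgroup.isMulCommutative_closure hScomm
  have hcomm : ∀ a ∈ Subgroup.closure S, ∀ b ∈ Subgroup.closure S, a * b = b * a := by
    intro a ha b hb
    exact congrArg Subtype.val (hAc.is_comm.comm ⟨a, ha⟩ ⟨b, hb⟩)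
  refine ⟨Subgroup.closure S, hAc, ?_, hEc.trans ?_⟩
  · intro a ha
    induction ha using Subgroup.closure_induction with
    | mem x hx =>
      obtain ⟨y, hy, rfl⟩ := hx
      show (y ^ m) ^ p = 1
      rw [← pow_mul, mul_comm, pow_mul]
      refine hZpow _ ?_
      rw [← QuotientGroup.ker_mk' Z, MonoidHom.mem_ker, map_pow]
      exact hEp _ hy
    | one => exact one_pow p
    | mul x y hx hy ihx ihy =>
      have h1 : Commute x y := hcomm x hx y hy
      rw [h1.mul_pow, ihx, ihy, one_mul]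
    | inv x hx ih => rw [inv_pow, ih, inv_one]
  · have h1 : E ≤ (Subgroup.closure S).map π := by
      intro e he
      obtain ⟨y, rfl⟩ := QuotientGroup.mk'_surjective Z e
      refine ⟨y ^ m, Subgroup.subset_closure ⟨y, he, rfl⟩, ?_⟩
      rw [map_pow]
      exact hEm _ he
    exact (Subgroup.card_le_of_le h1).trans
      (Nat.card_le_card_of_surjective _ (π.subgroupMap_surjective (Subgroup.closure S)))

end quot

section matrix

open Cfsg Matrix

variable {F : Type*} [Field F] [Fintype F] {n : ℕ}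

/-- the rank bound for `SL_n` -/
theorem mul_ord_le_sl {ι : Type*} [Fintype ι] [DecidableEq ι] {p : ℕ} (hp : p.Prime) (hpF : (p : F) ≠ 0) {r : ℕ}
    (h : PRankAtLeast p r (Matrix.SpecialLinearGroup ι F)) :
    r * orderOf ((Nat.card F : ℕ) : ZMod p) ≤ Fintype.card ι := by
  classical
  obtain ⟨E, hE, hEp, hEc⟩ := h
  letI : CommGroup E := { (inferInstance : Group E) with mul_comm := fun a b => hE.is_comm.comm a b }
  let φ : E →* ((ι → F) →ₗ[F] (ι → F)) :=
    { toFun := fun a => Matrix.toLin' ((a : Matrix.SpecialLinearGroup ι F) : Matrix ι ι F)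
      map_one' := by
        show Matrix.toLin' (1 : Matrix ι ι F) = 1
        rw [Matrix.toLin'_one]; rfl
      map_mul' := fun a b => by
        show Matrix.toLin' (((a * b : E) : Matrix.SpecialLinearGroup ι F) : Matrix ι ι F) = _
        rw [Subgroup.coe_mul, Matrix.SpecialLinearGroup.coe_mul, Matrix.toLin'_mul]; rfl }
  have hφ : Function.Injective φ := by
    intro a b hab
    have h1 : ((a : Matrix.SpecialLinearGroup ι F) : Matrix ι ι F) = ((b : Matrix.SpecialLinearGroup ι F) : Matrix ι ι F) :=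
      Matrix.toLin'.injective hab
    exact Subtype.ext (Subtype.ext h1)
  exact mul_ord_le_finrank_hom hp hpF _ (ι → F) (Module.finrank_fintype_fun_eq_card F) E
    (fun a => Subtype.ext (hEp a a.2)) φ hφ r hEc

/-- the rank bound for `PSL_n`, `p ∤ |F| - 1` -/
theorem mul_ord_le_psl {p : ℕ} (hp : p.Prime) (hpF : (p : F) ≠ 0) (hp1 : ¬ p ∣ Fintype.card F - 1) {r : ℕ}
    (h : PRankAtLeast p r (Matrix.ProjectiveSpecialLinearGroup (Fin n) F)) :
    r * orderOf ((Nat.card F : ℕ) : ZMod p) ≤ n := by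
  have h1 : PRankAtLeast p r (Matrix.SpecialLinearGroup (Fin n) F) := by
    refine pRankAtLeast_of_quot (Subgroup.center _) le_rfl hp ?_ h
    intro hd
    haveI : Fact p.Prime := ⟨hp⟩
    obtain ⟨z, hz⟩ := exists_prime_orderOf_dvd_card' p hd
    obtain ⟨c, hcn, hc⟩ := Matrix.SpecialLinearGroup.mem_center_iff.1 z.2
    have hzp : (z : Matrix.SpecialLinearGroup (Fin n) F) ^ p = 1 := by
      have : z ^ p = 1 := by rw [← hz]; exact pow_orderOf_eq_one z
      exact congrArg Subtype.val this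
    have hz1 : z ≠ 1 := by
      intro h0
      rw [h0, orderOf_one] at hz
      exact hp.one_lt.ne hz
    by_cases hn : n = 0
    · subst hn
      apply hz1
      apply Subtype.ext
      apply Subtype.ext
      ext i j
      exact i.elim0
    haveI : NeZero n := ⟨hn⟩
    have hcp : c ^ p = 1 := by
      have h2 : ((z : Matrix.SpecialLinearGroup (Fin n) F) : Matrix (Fin n) (Fin n) F) ^ p = 1 := by
        rw [← Matrix.SpecialLinearGroup.coe_pow, hzp]; rfl
      rw [← hc, ← map_pow] at h2
      have h3 := congrFun (congrFun h2 0) 0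
      simpa using h3
    have hc1 : c ≠ 1 := by
      intro h0
      apply hz1
      apply Subtype.ext
      apply Subtype.ext
      rw [← hc, h0]
      simp
    have hc0 : c ≠ 0 := by
      intro h0
      rw [h0, zero_pow hp.ne_zero] at hcp
      exact zero_ne_one hcp
    have h4 : orderOf c = p := orderOf_eq_prime hcp hc1
    apply hp1
    rw [← h4]
    exact orderOf_dvd_of_pow_eq_one (FiniteField.pow_card_sub_one_eq_one c hc0)
  have h2 := mul_ord_le_sl hp hpF h1
  rwa [Fintype.card_fin] at h2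

end matrix

end Cfsg.Agent.GpLn.Rank
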